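import Cfsg.Agent.H67.RankOneFix.Geometry
import Cfsg.Agent.H27.GLTwo
import Cfsg.Agent.Linear.TwoSL

/-!
`SL₂` in its defining characteristic at least five.
-/

set_option autoImplicit false
set_option linter.unusedSectionVars false
set_option linter.style.haveILetI false

namespace Cfsg.Agent.H67.RankOneFix

open Matrix Subgroup

variable {p : ℕ} [Fact p.Prime] {F : Type} [Field F] [Fintype F] [CharP F p]

local notation "S2" => Matrix.SpecialLinearGroup (Fin 2) F

/-- The upper unipotent element. -/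
def upEl (b : F) : S2 := ⟨!![1, b; 0, 1], by simp [Matrix.det_fin_two_of]⟩

/-- The lower unipotent element. -/
def lowEl (b : F) : S2 := ⟨!![1, 0; b, 1], by simp [Matrix.det_fin_two_of]⟩

theorem upEl_pow (b : F) (n : ℕ) : (upEl b) ^ n = upEl ((n : F) * b) := by
  induction n with
  | zero => rw [pow_zero]; exact Linear.SL_ext_two (by simp [upEl]) (by simp [upEl]) (by simp [upEl]) (by simp [upEl])
  | succ n ih =>
    rw [pow_succ, ih]
    refine Linear.SL_ext_two ?_ ?_ ?_ ?_ <;> rw [Linear.SL_mul_entries] <;> simp [upEl] <;> ring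

theorem lowEl_pow (b : F) (n : ℕ) : (lowEl b) ^ n = lowEl ((n : F) * b) := by
  induction n with
  | zero => rw [pow_zero]; exact Linear.SL_ext_two (by simp [lowEl]) (by simp [lowEl]) (by simp [lowEl]) (by simp [lowEl])
  | succ n ih =>
    rw [pow_succ, ih]
    refine Linear.SL_ext_two ?_ ?_ ?_ ?_ <;> rw [Linear.SL_mul_entries] <;> simp [lowEl] <;> ring

theorem exists_sl_mulVec_e0 {v : Fin 2 → F} (hv : v ≠ 0) :
    ∃ g : S2, (g : Matrix (Fin 2) (Fin 2) F) *ᵥ ![1, 0] = v := by
  by_cases h : v 0 = 0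
  · have h1 : v 1 ≠ 0 := fun h1 => hv (by ext i; fin_cases i <;> simp [h, h1])
    refine ⟨⟨!![v 0, -(v 1)⁻¹; v 1, 0], by simp [Matrix.det_fin_two_of, h, h1]⟩, ?_⟩
    ext i
    fin_cases i <;> simp [Matrix.mulVec, dotProduct, Fin.sum_univ_two]
  · refine ⟨⟨!![v 0, 0; v 1, (v 0)⁻¹], by simp [Matrix.det_fin_two_of, h]⟩, ?_⟩
    ext i
    fin_cases i <;> simp [Matrix.mulVec, dotProduct, Fin.sum_univ_two]

variable (p F) in
/-- The geometric data. -/
def slGeom : Geom p S2 F (Fin 2 → F) where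
  op g v := (g : Matrix (Fin 2) (Fin 2) F) *ᵥ v
  op_one v := by simp
  op_mul g h v := by rw [Matrix.SpecialLinearGroup.coe_mul, ← Matrix.mulVec_mulVec]
  op_smul g c v := Matrix.mulVec_smul _ _ _
  pts := {v | v ≠ 0}
  ne_zero v hv := hv
  invariant g v hv h := hv (by
    rw [← Matrix.one_mulVec v, ← Matrix.SpecialLinearGroup.coe_one, ← inv_mul_cancel g,
      Matrix.SpecialLinearGroup.coe_mul, ← Matrix.mulVec_mulVec, h, Matrix.mulVec_zero])
  stab v hv := by
    obtain ⟨w, hw, hP⟩ := H27.GLTwo.sl_sylow p (default : Sylow p S2)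
    obtain ⟨h1, e1⟩ := exists_sl_mulVec_e0 (F := F) hv
    obtain ⟨h2, e2⟩ := exists_sl_mulVec_e0 (F := F) hw
    refine ⟨(h1 * h2⁻¹) • (default : Sylow p S2), fun g => ?_⟩
    have e : v = (h1 * h2⁻¹) • w := by
      rw [H27.GLTwo.sl_smul_eq, ← e1, ← e2, Matrix.mulVec_mulVec, ← Matrix.SpecialLinearGroup.coe_mul,
        inv_mul_cancel_right]
    set h := h1 * h2⁻¹
    have hm : g ∈ ((h • (default : Sylow p S2) : Sylow p S2) : Subgroup S2) ↔
        h⁻¹ * g * h ∈ ((default : Sylow p S2) : Subgroup S2) := by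
      constructor
      · rintro ⟨x, hx, rfl⟩
        show h⁻¹ * (h * x * h⁻¹) * h ∈ ((default : Sylow p S2) : Subgroup S2)
        rw [show h⁻¹ * (h * x * h⁻¹) * h = x by group]
        exact hx
      · intro hx
        exact ⟨_, hx, by simp [mul_assoc]⟩
    rw [hm]
    show h⁻¹ * g * h ∈ (default : Sylow p S2) ↔ _
    rw [hP, ← H27.GLTwo.sl_smul_eq g v, e, mul_smul, mul_smul, inv_smul_eq_iff]
  cover W := by
    obtain ⟨w, hw, hP⟩ := H27.GLTwo.sl_sylow p W
    exact ⟨w, hw, hP⟩
  line v hv w _ hall := by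
    obtain ⟨h, e⟩ := exists_sl_mulVec_e0 (F := F) hv
    have h1 := hall (h * upEl 1 * h⁻¹) (by
      rw [← e, Matrix.mulVec_mulVec, ← Matrix.SpecialLinearGroup.coe_mul, inv_mul_cancel_right,
        Matrix.SpecialLinearGroup.coe_mul, ← Matrix.mulVec_mulVec]
      congr 1
      ext i
      fin_cases i <;> simp [upEl, Matrix.mulVec, dotProduct, Fin.sum_univ_two])
    set w' := ((h⁻¹ : S2) : Matrix (Fin 2) (Fin 2) F) *ᵥ w with hw'
    have h2 : ((upEl 1 : S2) : Matrix (Fin 2) (Fin 2) F) *ᵥ w' = w' := by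
      have := congrArg (((h⁻¹ : S2) : Matrix (Fin 2) (Fin 2) F) *ᵥ ·) h1
      simp only [Matrix.mulVec_mulVec, ← Matrix.SpecialLinearGroup.coe_mul] at this
      rw [mul_assoc h, inv_mul_cancel_left] at this
      rw [hw', Matrix.mulVec_mulVec, ← Matrix.SpecialLinearGroup.coe_mul]
      exact this
    have h3 : w' 1 = 0 := by
      have := congrFun h2 0
      simpa [upEl, Matrix.mulVec, dotProduct, Fin.sum_univ_two] using this
    refine ⟨w' 0, ?_⟩
    have h4 : w' = w' 0 • ![1, 0] := by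
      ext i
      fin_cases i <;> simp [h3]
    calc w = (h : Matrix (Fin 2) (Fin 2) F) *ᵥ w' := by
          rw [hw', Matrix.mulVec_mulVec, ← Matrix.SpecialLinearGroup.coe_mul, mul_inv_cancel,
            Matrix.SpecialLinearGroup.coe_one, Matrix.one_mulVec]
      _ = _ := by rw [h4, Matrix.mulVec_smul, e]; simp

theorem two_ne_zero_of_five_le (hp : 5 ≤ p) : (2 : F) ≠ 0 := fun h => by
  have := (CharP.cast_eq_zero_iff F p 2).mp (by simpa using h)
  have := Nat.le_of_dvd (by norm_num) this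
  omega

theorem three_ne_zero_of_five_le (hp : 5 ≤ p) : (3 : F) ≠ 0 := fun h => by
  have := (CharP.cast_eq_zero_iff F p 3).mp (by simpa using h)
  have := Nat.le_of_dvd (by norm_num) this
  omega

theorem two_pow_char : (2 : F) ^ p = 2 := by
  have h : ((1 : F) + 1) ^ p = 1 ^ p + 1 ^ p := add_pow_char (1 : F) 1 p
  rwa [one_pow, one_add_one_eq_two] at h

theorem two_pow_pred (hp : 5 ≤ p) : (2 : F) ^ (p - 1) = 1 := by
  refine mul_left_cancel₀ (two_ne_zero_of_five_le (F := F) hp) ?_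
  rw [mul_one, ← pow_succ', Nat.sub_add_cancel (by omega), two_pow_char]

theorem good_slTwo (hp : 5 ≤ p) : Good p S2 := by
  have h2 := two_ne_zero_of_five_le (p := p) (F := F) hp
  have h3 := three_ne_zero_of_five_le (p := p) (F := F) hp
  let t : S2 := ⟨!![2, 0; 0, 2⁻¹], by simp [Matrix.det_fin_two_of, h2]⟩
  refine (slGeom p F).good (u := ![1, 0]) (f := ![0, 1]) (t := t) ?_ ?_ ?_ ⟨2, ?_, two_pow_pred hp⟩
    ⟨2⁻¹, ?_⟩ ?_ ?_ ?_ ?_
  · intro h; have := congrFun h 0; simp at this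
  · intro h; have := congrFun h 1; simp at this
  · intro c h; have := congrFun h 1; simp at this
  · show (t : Matrix (Fin 2) (Fin 2) F) *ᵥ _ = _
    ext i; fin_cases i <;> simp [t, Matrix.mulVec, dotProduct, Fin.sum_univ_two]
  · show (t : Matrix (Fin 2) (Fin 2) F) *ᵥ _ = _
    ext i; fin_cases i <;> simp [t, Matrix.mulVec, dotProduct, Fin.sum_univ_two]
  · rintro v - ⟨c, hc⟩
    have e0 : (2 : F) * v 0 = c * v 0 := by
      have := congrFun hc 0
      simpa [slGeom, t, Matrix.mulVec, dotProduct, Fin.sum_univ_two] using this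
    have e1 : (2 : F)⁻¹ * v 1 = c * v 1 := by
      have := congrFun hc 1
      simpa [slGeom, t, Matrix.mulVec, dotProduct, Fin.sum_univ_two] using this
    by_cases hv1 : v 1 = 0
    · exact Or.inl ⟨v 0, by ext i; fin_cases i <;> simp [hv1]⟩
    refine Or.inr ⟨v 1, ?_⟩
    have hv0 : v 0 = 0 := by
      by_contra hv0
      have ha := mul_right_cancel₀ hv0 e0
      have hb := mul_right_cancel₀ hv1 e1
      have hc2 : (2 : F)⁻¹ * 2 = 1 := inv_mul_cancel₀ h2
      exact h3 (by linear_combination (2 : F) * ha - (2 : F) * hb + hc2)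
    ext i; fin_cases i <;> simp [hv0]
  · intro v _ hvu
    have hv1 : v 1 ≠ 0 := fun h => hvu (v 0) (by ext i; fin_cases i <;> simp [h])
    refine ⟨upEl (v 0 / v 1), ?_, (v 1)⁻¹, inv_ne_zero hv1, ?_⟩
    · show ((upEl (v 0 / v 1) : S2) : Matrix (Fin 2) (Fin 2) F) *ᵥ _ = _
      ext i; fin_cases i <;> simp [upEl, Matrix.mulVec, dotProduct, Fin.sum_univ_two]
    · show ((upEl (v 0 / v 1) : S2) : Matrix (Fin 2) (Fin 2) F) *ᵥ _ = _
      ext i; fin_cases i <;> simp [upEl, Matrix.mulVec, dotProduct, Fin.sum_univ_two, hv1]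
      field_simp
  · intro g hg
    have hu : ∀ b : F, (upEl b) ^ p ^ 1 = 1 := fun b => by
      rw [pow_one, upEl_pow, CharP.cast_eq_zero F p, zero_mul]
      apply Subtype.ext; simp [upEl, Matrix.one_fin_two]
    have hl : ∀ b : F, (lowEl b) ^ p ^ 1 = 1 := fun b => by
      rw [pow_one, lowEl_pow, CharP.cast_eq_zero F p, zero_mul]
      apply Subtype.ext; simp [lowEl, Matrix.one_fin_two]
    have eu := hg (upEl 1) ⟨1, hu 1⟩
    have el := hg (lowEl 1) ⟨1, hl 1⟩
    have u00 := congrArg (fun m : S2 => (m : Matrix (Fin 2) (Fin 2) F) 0 0) eu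
    have u01 := congrArg (fun m : S2 => (m : Matrix (Fin 2) (Fin 2) F) 0 1) eu
    have l00 := congrArg (fun m : S2 => (m : Matrix (Fin 2) (Fin 2) F) 0 0) el
    simp only [Linear.SL_mul_entries] at u00 u01 l00
    simp [upEl, lowEl] at u00 u01 l00
    rw [Linear.mem_center_SL_two, ← Linear.isScalarTwo_SL_iff]
    refine ⟨?_, ?_, ?_⟩ <;> grind
  · have hsub : ∀ g : center S2, (g : S2) = 1 ∨ (g : S2) = -1 := fun g => Linear.mem_center_SL_two.mp g.2
    have : Nat.card (center S2) ≤ Nat.card Bool := by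
      classical
      refine Nat.card_le_card_of_injective (fun g => decide ((g : S2) = 1)) fun a b hab => ?_
      simp only [decide_eq_decide] at hab
      rcases hsub a with ha | ha <;> rcases hsub b with hb | hb <;> apply Subtype.ext
      · rw [ha, hb]
      · rw [ha, hab.mp ha]
      · rw [hab.mpr hb, hb]
      · rw [ha, hb]
    rw [Nat.card_eq_fintype_card (α := Bool), Fintype.card_bool] at this
    omega

end Cfsg.Agent.H67.RankOneFix
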