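import Cfsg.Agent.H67.RankOneFix.Geometry
import Cfsg.Agent.H67.RankOneFix.SLTwo
import Cfsg.Agent.H52.SUThree
import Cfsg.Agent.Unitary.Center

/-!
`SU₃` in its defining characteristic at least five.
-/

set_option autoImplicit false
set_option linter.unusedSectionVars false
set_option linter.style.haveILetI false

namespace Cfsg.Agent.H67.RankOneFix

open Matrix hiding vec
open Subgroup Cfsg Cfsg.Agent.Unitary Cfsg.Agent.H52.SUThree

variable {p : ℕ} [Fact p.Prime] {F : Type} [Field F] [Fintype F] [CharP F p] {q : ℕ}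

local notation "hf'" => hermForm 3 F q

theorem exists_frame_at (hF : Fintype.card F = q ^ 2) {u : Fin 3 → F} (hu0 : u ≠ 0) (hu : hf' u u = 0) :
    ∃ w f : Fin 3 → F, Frame q u w f := by
  obtain ⟨f, -, hf, hfu⟩ := exists_partner hF (nondeg_top (n := 3) hF) Submodule.mem_top hu0 hu
  have huf : hf' u f = 1 := by rw [← herm_swap hF f u, hfu, one_pow]
  have hne : hf' u f ≠ 0 := by rw [huf]; exact one_ne_zero
  have hP := nondeg_pair hF hu hf hne
  have hd := finrank_perp_add hF hP
  rw [finrank_pair (indep_pair hF hu hne), perp_span hF] at hd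
  have hW : Nondeg q (perp q ({u, f} : Set (Fin 3 → F))) := by
    rw [← perp_span hF]; exact nondeg_perp hF hP
  obtain ⟨g, hgW, hg⟩ := exists_norm_one hF hW (fun h => by
    rw [h, finrank_bot] at hd; omega)
  obtain ⟨h2, h3⟩ := mem_perp_pair.1 hgW
  exact ⟨g, f, hu, hf, hg, huf, hfu, h2, (herm_eq_zero_symm hF).1 h2, h3, (herm_eq_zero_symm hF).1 h3⟩

variable {u w f : Fin 3 → F}

theorem fr_u (u w f : Fin 3 → F) : vec u w f 1 0 0 = u := by simp [vec]

theorem fr_w (u w f : Fin 3 → F) : vec u w f 0 1 0 = w := by simp [vec]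

theorem fr_f (u w f : Fin 3 → F) : vec u w f 0 0 1 = f := by simp [vec]

theorem E_fixes (hF : Fintype.card F = q ^ 2) (hfr : Frame q u w f) {b β : F} (h : Ok q b β) :
    ap (eSU hF (h.spec hfr)) u = u := by
  have e := ap_E hF hfr h 1 0 0
  simp only [mul_zero, sub_zero, add_zero, fr_u] at e
  exact e

theorem E_pow (hF : Fintype.card F = q ^ 2) (hfr : Frame q u w f) {b β : F} (h : Ok q b β) (n : ℕ) :
    ∃ β', ∃ h' : Ok q ((n : F) * b) β',
      eSU hF (h.spec hfr) ^ n = eSU hF (h'.spec hfr) ∧ (b = 0 → β' = (n : F) * β) := by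
  induction n with
  | zero =>
    refine ⟨0, by rw [Nat.cast_zero, zero_mul]; exact Ok.zero hF, ?_, fun _ => by simp⟩
    rw [pow_zero]
    refine eq_of_ap hfr fun a r s => ?_
    rw [ap_one, ap_E hF hfr (show Ok q (((0 : ℕ) : F) * b) 0 by
      rw [Nat.cast_zero, zero_mul]; exact Ok.zero hF)]
    simp [zero_pow (q_ne_zero hF)]
  | succ n ih =>
    obtain ⟨β', h', e, hb⟩ := ih
    have hcast : ((n + 1 : ℕ) : F) * b = (n : F) * b + b := by push_cast; ring
    refine ⟨β' + β - b * ((n : F) * b) ^ q, by rw [hcast]; exact h'.add hF h, ?_, fun hb0 => ?_⟩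
    · rw [pow_succ, e, E_mul hF hfr h' h]
      exact E_congr hF hfr (h'.add hF h) (by rw [hcast]; exact h'.add hF h) hcast.symm rfl
    · rw [hb hb0, hb0]; push_cast; ring

theorem E_pow_char_sq (hF : Fintype.card F = q ^ 2) (hfr : Frame q u w f) {b β : F} (h : Ok q b β) :
    eSU hF (h.spec hfr) ^ p ^ 2 = 1 := by
  obtain ⟨β', h', e, -⟩ := E_pow hF hfr h p
  obtain ⟨β'', h'', e', hb⟩ := E_pow hF hfr h' p
  rw [pow_two, pow_mul, e, e']
  refine eq_of_ap hfr fun a r s => ?_
  rw [ap_one, ap_E hF hfr h'', hb (by rw [CharP.cast_eq_zero F p, zero_mul])]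
  simp [CharP.cast_eq_zero F p, zero_pow (q_ne_zero hF)]

theorem eq_E_of_fix (hF : Fintype.card F = q ^ 2) (hfr : Frame q u w f) {g : SU 3 F q}
    (hg : ap g u = u) : ∃ (b β : F) (h : Ok q b β), g = eSU hF (h.spec hfr) := by
  have hc : ∀ x, hf' (ap g x) u = hf' x u := fun x => by
    conv_lhs => rw [← hg]
    exact herm_ap g x u
  -- the image of `f`
  have hf1 : hf' (ap g f) u = 1 := by rw [hc, hfr.fu]
  set b := hf' (ap g f) w with hb
  set β := hf' (ap g f) f with hβ
  have hgf : ap g f = vec u w f β b 1 := by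
    conv_lhs => rw [hfr.expand (ap g f), hf1]
  have hok : Ok q b β := by
    have h1 := herm_ap g f f
    rw [hgf, hfr.herm_vec hF, hfr.ff, one_pow, mul_one, one_mul] at h1
    rw [Ok]
    linear_combination h1
  set E := eSU hF (hok.spec hfr) with hE
  set h := E⁻¹ * g with hh
  have hEf : ap E f = vec u w f β b 1 := by
    have e := ap_E hF hfr hok 0 0 1
    simp only [mul_zero, mul_one, sub_zero, zero_add, fr_f] at e
    exact e
  have hhu : ap h u = u := by
    rw [hh, ap_mul, hg]
    conv_lhs => rw [← E_fixes hF hfr hok]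
    rw [ap_inv_ap]
  have hhf : ap h f = f := by rw [hh, ap_mul, hgf, ← hEf, ap_inv_ap]
  set ν := hf' (ap h w) w with hν
  have hhw : ap h w = vec u w f 0 ν 0 := by
    have e1 : hf' (ap h w) f = 0 := by
      conv_lhs => rw [← hhf]
      rw [herm_ap, hfr.wf]
    have e2 : hf' (ap h w) u = 0 := by
      conv_lhs => rw [← hhu]
      rw [herm_ap, hfr.wu]
    conv_lhs => rw [hfr.expand (ap h w), e1, e2]
  have hhv : ∀ a r s, ap h (vec u w f a r s) = vec u w f a (r * ν) s := fun a r s => by
    simp only [vec, ap_add, ap_smul, hhu, hhf, hhw]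
    module
  -- the determinant
  have hν1 : ν = 1 := by
    set X : Matrix (Fin 3) (Fin 3) F := Matrix.of fun i j => ![u i, w i, f i] j with hX
    have hXv : ∀ c : Fin 3 → F, X *ᵥ c = vec u w f (c 0) (c 1) (c 2) := fun c => by
      ext i
      simp [hX, Matrix.mulVec, dotProduct, Fin.sum_univ_three, vec]
      ring
    have hdetX : X.det ≠ 0 := fun h0 => by
      have := congrArg Matrix.det hfr.mul_eq_one
      rw [det_mul, det_one, ← hX, h0, mul_zero] at this
      exact zero_ne_one this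
    have hmul : mat h * X = X * Matrix.diagonal ![1, ν, 1] := Matrix.ext_iff_mulVec.2 fun c => by
      rw [← mulVec_mulVec, ← mulVec_mulVec, hXv, hXv, ← ap_def, hhv]
      congr 1 <;> simp [Matrix.mulVec_diagonal, mul_comm]
    have hd : (mat h).det = 1 := (h : Matrix.SpecialLinearGroup (Fin 3) F).2
    have := congrArg Matrix.det hmul
    rw [det_mul, det_mul, hd, one_mul, det_diagonal, Fin.prod_univ_three] at this
    exact (mul_left_cancel₀ hdetX (by simpa using this)).symm
  refine ⟨b, β, hok, ?_⟩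
  have h1 : h = 1 := eq_of_ap hfr fun a r s => by rw [hhv, hν1, mul_one, ap_one]
  rw [← hE]
  exact (inv_mul_eq_one.mp h1).symm

theorem isPGroup_fixer (hF : Fintype.card F = q ^ 2) (hu0 : u ≠ 0) (hu : hf' u u = 0) {g : SU 3 F q}
    (hg : ap g u = u) : g ^ p ^ 2 = 1 := by
  obtain ⟨w, f, hfr⟩ := exists_frame_at hF hu0 hu
  obtain ⟨b, β, h, rfl⟩ := eq_E_of_fix hF hfr hg
  exact E_pow_char_sq hF hfr h

theorem line_of_fix (hF : Fintype.card F = q ^ 2) (hu0 : u ≠ 0) (hu : hf' u u = 0) {x : Fin 3 → F}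
    (hall : ∀ g : SU 3 F q, ap g u = u → ap g x = x) : ∃ c : F, x = c • u := by
  obtain ⟨w, f, hfr⟩ := exists_frame_at hF hu0 hu
  obtain ⟨β, hβ⟩ := exists_ok hF (1 : F)
  have h1 := hall _ (E_fixes hF hfr hβ)
  rw [hfr.expand x, ap_E hF hfr hβ] at h1
  have hs : hf' x u = 0 := by
    have := congrArg (fun y => hf' y w) h1
    simp only [hfr.coord_w, one_mul] at this
    linear_combination this
  have hr : hf' x w = 0 := by
    have := congrArg (fun y => hf' y f) h1
    simp only [hfr.coord_f, hs, one_pow, one_mul, mul_zero, add_zero] at this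
    linear_combination -this
  refine ⟨hf' x f, ?_⟩
  conv_lhs => rw [hfr.expand x, hs, hr]
  simp [vec]

theorem exists_iso_fixed (hF : Fintype.card F = q ^ 2) (P : Subgroup (SU 3 F q)) (hP : IsPGroup p P) :
    ∃ v : Fin 3 → F, v ≠ 0 ∧ hf' v v = 0 ∧ ∀ g ∈ P, ap g v = v := by
  have hfix : ∀ W : Submodule F (Fin 3 → F), W ≠ ⊥ → (∀ y ∈ P, ∀ v ∈ W, ap y v ∈ W) →
      ∃ v ∈ W, v ≠ 0 ∧ ∀ y ∈ P, ap y v = v := by
    intro W hW hinv
    let act : MulAction P W :=
      { smul := fun y v => ⟨ap (y : SU 3 F q) v.1, hinv _ y.2 _ v.2⟩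
        one_smul := fun v => Subtype.ext (ap_one v.1)
        mul_smul := fun y z v => Subtype.ext (ap_mul (y : SU 3 F q) z v.1) }
    have hdvd : p ∣ Nat.card W := by
      rw [Module.natCard_eq_pow_finrank (K := F)]
      refine dvd_pow ?_ ?_
      · obtain ⟨n, -, hn⟩ := FiniteField.card F p
        rw [Nat.card_eq_fintype_card, hn]
        exact dvd_pow_self p n.ne_zero
      · intro h
        exact hW (Submodule.finrank_eq_zero.1 h)
    have h0 : (0 : W) ∈ MulAction.fixedPoints P W := fun y => Subtype.ext (ap_zero (y : SU 3 F q))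
    obtain ⟨v, hv, hv0⟩ := hP.exists_fixed_point_of_prime_dvd_card_of_fixed_point W hdvd h0
    exact ⟨v.1, v.2, fun h => hv0 (Subtype.ext h.symm), fun y hy => congrArg Subtype.val (hv ⟨y, hy⟩)⟩
  obtain ⟨a, -, ha0, ha⟩ := hfix ⊤ (fun h => by
    have := congrArg (fun W : Submodule F (Fin 3 → F) => Module.finrank F W) h
    simp at this) fun _ _ _ _ => trivial
  by_cases haa : hf' a a = 0
  · exact ⟨a, ha0, haa, ha⟩
  have hW : perp q ({a} : Set (Fin 3 → F)) ≠ ⊥ := by
    have hn : Nondeg q (Submodule.span F ({a} : Set (Fin 3 → F))) := by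
      intro z hz h
      obtain ⟨c, rfl⟩ := Submodule.mem_span_singleton.1 hz
      have h' := h a (Submodule.mem_span_singleton_self _)
      rw [herm_smul_left, mul_eq_zero] at h'
      rw [h'.resolve_right haa, zero_smul]
    have hr := finrank_perp_add hF hn
    rw [finrank_span_singleton ha0, perp_span hF] at hr
    intro h
    rw [h, finrank_bot] at hr
    omega
  obtain ⟨b, hbW, hb0, hb⟩ := hfix _ hW fun y hy z hz => by
    rw [mem_perp_singleton] at hz ⊢
    rw [← ha y hy, herm_ap, hz]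
  rw [mem_perp_singleton] at hbW
  by_cases hbb : hf' b b = 0
  · exact ⟨b, hb0, hbb, hb⟩
  obtain ⟨c, hc⟩ := exists_norm_eq hF (a := -(hf' b b / hf' a a))
    (by rw [neg_pow_q hF, div_pow, herm_self_fixed hF, herm_self_fixed hF])
  refine ⟨c • a + b, ?_, ?_, fun g hg => by rw [ap_add, ap_smul, ha g hg, hb g hg]⟩
  · intro h
    have h' := congrArg (fun y => hf' y b) h
    simp only [herm_add_left, herm_smul_left, (herm_eq_zero_symm hF).1 hbW, mul_zero, zero_add,
      herm_zero_left] at h'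
    exact hbb h'
  · rw [herm_self_add hF, herm_self_smul, herm_smul_left, (herm_eq_zero_symm hF).1 hbW, mul_zero,
      zero_pow (q_ne_zero hF), add_zero, add_zero, hc, neg_mul, div_mul_cancel₀ _ haa, neg_add_cancel]

variable (p) in
/-- The geometric data. -/
def suGeom (hF : Fintype.card F = q ^ 2) : Geom p (SU 3 F q) F (Fin 3 → F) where
  op g v := ap g v
  op_one := ap_one
  op_mul := ap_mul
  op_smul g c v := ap_smul g c v
  pts := {v | v ≠ 0 ∧ hf' v v = 0}
  ne_zero v hv := hv.1
  invariant g v hv := ⟨fun h => hv.1 (ap_injective g (h.trans (ap_zero g).symm)),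
    by rw [herm_ap]; exact hv.2⟩
  stab v hv := by
    have hp : IsPGroup p (fixer 3 F q ({v} : Set (Fin 3 → F))) := fun g =>
      ⟨2, Subtype.ext (isPGroup_fixer hF hv.1 hv.2 (mem_fixer.1 g.2 v rfl))⟩
    obtain ⟨W, hW⟩ := hp.exists_le_sylow
    refine ⟨W, fun g => ⟨fun hg => ?_, fun hg => hW (mem_fixer.2 fun x hx => by rw [hx]; exact hg)⟩⟩
    obtain ⟨x, hx0, hxx, hx⟩ := exists_iso_fixed hF (W : Subgroup (SU 3 F q)) W.isPGroup'
    obtain ⟨c, rfl⟩ := line_of_fix hF hv.1 hv.2 fun y hy =>
      hx y (hW (mem_fixer.2 fun z hz => by rw [hz]; exact hy))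
    have hc : c ≠ 0 := fun h => hx0 (by rw [h, zero_smul])
    have := hx g hg
    rw [ap_smul] at this
    exact smul_right_injective _ hc this
  cover W := by
    obtain ⟨x, hx0, hxx, hx⟩ := exists_iso_fixed hF (W : Subgroup (SU 3 F q)) W.isPGroup'
    refine ⟨x, ⟨hx0, hxx⟩, fun g => ⟨hx g, fun hg => ?_⟩⟩
    have hp : IsPGroup p (fixer 3 F q ({x} : Set (Fin 3 → F))) := fun g =>
      ⟨2, Subtype.ext (isPGroup_fixer hF hx0 hxx (mem_fixer.1 g.2 x rfl))⟩
    rw [← W.3 hp fun y hy => mem_fixer.2 fun z hz => by rw [hz]; exact hx y hy]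
    exact mem_fixer.2 fun z hz => by rw [hz]; exact hg
  line v hv x _ hall := line_of_fix hF hv.1 hv.2 hall

theorem good_suThree (hp : 5 ≤ p) (hF : Fintype.card F = q ^ 2) : Good p (SU 3 F q) := by
  have h2 := two_ne_zero_of_five_le (p := p) (F := F) hp
  have h3 := three_ne_zero_of_five_le (p := p) (F := F) hp
  obtain ⟨u, w, f, hfr⟩ := exists_frame (F := F) hF
  have h2q : (2 : F) ^ q = 2 := by simpa using natCast_pow_q hF 2
  have hu0 : u ≠ 0 := fun h => by
    have := hfr.uf; rw [h, herm_zero_left] at this; exact zero_ne_one this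
  have hf0 : f ≠ 0 := fun h => by
    have := hfr.fu; rw [h, herm_zero_left] at this; exact zero_ne_one this
  obtain ⟨t, ht⟩ := exists_map hF hfr (Matrix.diagonal ![(2 : F), 1, 2⁻¹])
    (by rw [det_diagonal, Fin.prod_univ_three]; simp [mul_inv_cancel₀ h2])
    (fun x y => by
      simp only [Matrix.mulVec_diagonal, mul_pow, Matrix.cons_val_zero, Matrix.cons_val_one,
        Matrix.cons_val_two, Matrix.tail_cons, Matrix.head_cons, inv_pow, h2q, one_pow, one_mul]
      field_simp)
  have htv : ∀ a r s, ap t (vec u w f a r s) = vec u w f (2 * a) r (2⁻¹ * s) := fun a r s => by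
    rw [ht]
    congr 1 <;> simp [Matrix.mulVec_diagonal]
  refine (suGeom p hF).good (u := u) (f := f) (t := t) ⟨hu0, hfr.uu⟩ ⟨hf0, hfr.ff⟩ ?_
    ⟨2, ?_, two_pow_pred hp⟩ ⟨2⁻¹, ?_⟩ ?_ ?_ ?_ ?_
  · intro c hc
    have := hfr.fu
    rw [hc, herm_smul_left, hfr.uu, mul_zero] at this
    exact zero_ne_one this
  · show ap t u = _
    conv_lhs => rw [← fr_u u w f, htv, mul_one, mul_zero]
    simp [vec]
  · show ap t f = _
    conv_lhs => rw [← fr_f u w f, htv, mul_one, mul_zero]
    simp [vec]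
  · rintro v ⟨hv0, hvv⟩ ⟨c, hc⟩
    set a := hf' v f with hadef
    set r := hf' v w with hrdef
    set s := hf' v u with hsdef
    have hv : v = vec u w f a r s := hfr.expand v
    replace hc : vec u w f (2 * a) r (2⁻¹ * s) = c • vec u w f a r s := by
      rw [← hv, ← htv, ← hv]; exact hc
    have e1 := congrArg (fun y => hf' y f) hc
    have e2 := congrArg (fun y => hf' y w) hc
    have e3 := congrArg (fun y => hf' y u) hc
    simp only [herm_smul_left, hfr.coord_f, hfr.coord_w, hfr.coord_u] at e1 e2 e3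
    have hnorm : a * s ^ q + r * r ^ q + s * a ^ q = 0 := by
      rw [← hfr.herm_vec hF, ← hv]; exact hvv
    have hq0 := q_ne_zero hF
    by_cases ha : a = 0
    · have hr : r = 0 := by
        rw [ha, zero_mul, zero_pow hq0, mul_zero, zero_add, add_zero, mul_eq_zero, pow_eq_zero_iff hq0, or_self]
          at hnorm
        exact hnorm
      exact Or.inr ⟨s, by rw [hv, ha, hr]; simp [vec]⟩
    · have hc2 := mul_right_cancel₀ ha e1
      subst hc2
      have hr : r = 0 := by linear_combination -e2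
      have hs : s = 0 := by
        have h23 : (3 : F) * s = 0 := by
          linear_combination -(2 : F) * e3 + s * mul_inv_cancel₀ h2
        exact (mul_eq_zero.mp h23).resolve_left h3
      exact Or.inl ⟨a, by rw [hv, hr, hs]; simp [vec]⟩
  · rintro v ⟨hv0, hvv⟩ hvu
    set a := hf' v f with hadef
    set r := hf' v w with hrdef
    set s := hf' v u with hsdef
    have hv : v = vec u w f a r s := hfr.expand v
    have hnorm : a * s ^ q + r * r ^ q + s * a ^ q = 0 := by
      rw [← hfr.herm_vec hF, ← hv]; exact hvv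
    have hq0 := q_ne_zero hF
    have hs : s ≠ 0 := fun hs => by
      rw [hs, zero_mul, zero_pow hq0, mul_zero, zero_add, add_zero, mul_eq_zero, pow_eq_zero_iff hq0, or_self]
        at hnorm
      exact hvu a (by rw [hv, hnorm, hs]; simp [vec])
    have hok : Ok q (r / s) (a / s) := by
      have hsq : s ^ q ≠ 0 := pow_ne_zero _ hs
      rw [Ok, div_pow, div_pow]
      field_simp
      linear_combination hnorm
    refine ⟨eSU hF (hok.spec hfr), E_fixes hF hfr hok, s⁻¹, inv_ne_zero hs, ?_⟩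
    show ap _ f = _
    have e := ap_E hF hfr hok 0 0 1
    rw [fr_f] at e
    rw [e]
    rw [hv]
    simp only [vec]
    match_scalars <;> field_simp <;> ring
  · intro g hg
    obtain ⟨l, hl⟩ := eq_smul_of_fix_lines hF (by norm_num) g fun v hvv hv0 => by
      refine line_of_fix hF hv0 hvv fun x hx => ?_
      rw [← ap_mul, ← hg x ⟨2, isPGroup_fixer hF hv0 hvv hx⟩, ap_mul, hx]
    exact smul_mem_center hl
  · rw [card_center_SU hF (by norm_num)]
    have := Nat.gcd_le_left (q + 1) (show 0 < 3 by norm_num)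
    omega

end Cfsg.Agent.H67.RankOneFix
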