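import Cfsg.Agent.H67.RankOneFix.SLTwo
import Cfsg.Agent.H67.RankOneFix.SUThree
import Cfsg.Agent.H67.Focal.Coords

/-!
The four families of rank one groups in odd defining characteristic.
-/

set_option autoImplicit false
set_option linter.unusedSectionVars false

namespace Cfsg.Agent.H67.RankOneFix

open Subgroup

variable {p : ℕ} [Fact p.Prime] {F : Type} [Field F] [Fintype F]

theorem good_quotient_center {X : Type} [Group X] [Finite X] (h : Good p X)
    (hsmall : Nat.card (center X) < p) : Good p (X ⧸ center X) :=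
  h.map (QuotientGroup.mk' _) (QuotientGroup.mk'_surjective _) (by rw [QuotientGroup.ker_mk'])
    (by rw [QuotientGroup.ker_mk']; exact fun hd => (Nat.le_of_dvd Nat.card_pos hd).not_gt hsmall)

theorem Good.card_center {X : Type} [Group X] (h : Good p X) : Nat.card (center X) < p := by
  obtain ⟨_, _, _, _, _, _, -, -, -, -, -, -, -, -, h⟩ := h
  exact h

theorem good_slFamilies (hp : 5 ≤ p) {n : ℕ} (hF : Fintype.card F = p ^ n) :
    Good p (Matrix.SpecialLinearGroup (Fin 2) F) ∧
      Good p (Matrix.ProjectiveSpecialLinearGroup (Fin 2) F) := by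
  haveI := Focal.charP_of_card hF
  have h : Good p (Matrix.SpecialLinearGroup (Fin 2) F) := good_slTwo hp
  exact ⟨h, good_quotient_center h h.card_center⟩

theorem good_suFamilies (hp : 5 ≤ p) {a : ℕ} (hF : Fintype.card F = p ^ (2 * a)) :
    Good p ↥(Cfsg.SU 3 F (p ^ a)) ∧ Good p (Cfsg.PSU 3 F (p ^ a)) := by
  haveI := Focal.charP_of_card hF
  have h : Good p ↥(Cfsg.SU 3 F (p ^ a)) := good_suThree hp (by rw [hF, ← pow_mul, mul_comm])
  exact ⟨h, good_quotient_center h h.card_center⟩

universe u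

/-- Core application. -/
theorem mem_pCore_of_good {P : Type u} [Group P] [Finite P] (S : Sylow p P)
    (hK : Good p (Cfsg.pResidual p (P ⧸ Cfsg.pCore p P))) {z : P} (hzS : z ∈ (S : Subgroup P))
    (hzc : ∀ n ∈ normalizer ((S : Subgroup P) : Set P), z * n = n * z) : z ∈ Cfsg.pCore p P := by
  haveI : (Cfsg.pCore p P).Normal := inferInstance
  set π := QuotientGroup.mk' (Cfsg.pCore p P) with hπdef
  have hπ : Function.Surjective π := QuotientGroup.mk'_surjective _
  refine (QuotientGroup.eq_one_iff z).mp (fix_eq_one Cores.pCore_quotient_pCore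
    (Cfsg.pResidual p (P ⧸ Cfsg.pCore p P)) (fun y => Fusion.exists_pow_mem_pResidual y) hK
    (S.mapSurjective hπ) (z := π z) ⟨z, hzS, rfl⟩ fun n hn => ?_)
  obtain ⟨m, rfl⟩ := hπ n
  have hm : m ∈ normalizer ((S : Subgroup P) : Set P) := by
    rw [mem_normalizer_iff_map_conj_eq]
    refine eq_of_le_of_card_ge ?_ (card_map_of_injective (MulAut.conj m).injective).ge
    rintro _ ⟨x, hx, rfl⟩
    obtain ⟨y, hy, hxy⟩ := (mem_normalizer_iff.mp hn (π x)).mp ⟨x, hx, rfl⟩
    show m * x * m⁻¹ ∈ (S : Subgroup P)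
    have h1 : y⁻¹ * (m * x * m⁻¹) ∈ Cfsg.pCore p P :=
      QuotientGroup.eq.mp (show π y = π (m * x * m⁻¹) by rw [hxy, map_mul, map_mul, map_inv])
    have h2 := mul_mem hy (Cores.pCore_le_sylow S h1)
    rwa [mul_inv_cancel_left] at h2
  rw [← map_mul, ← map_mul, hzc m hm]

end Cfsg.Agent.H67.RankOneFix
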