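import Cfsg.Agent.Cores.PCore
import Cfsg.Agent.Fusion.PResidual
import Cfsg.Agent.H31.JSub
import Mathlib.RingTheory.RootsOfUnity.Basic
import Mathlib.GroupTheory.Nilpotent

/-!
An element of a Sylow subgroup over a rank one normal subgroup that commutes with the Sylow subgroup and
its normalizer is trivial.
-/

set_option autoImplicit false
set_option linter.unusedSectionVars false
set_option linter.style.haveILetI false

namespace Cfsg.Agent.H67.RankOneFix

open Subgroup

universe u v

variable {p : ℕ} [Fact p.Prime]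

/-- The properties of a rank one group that are used. -/
def Good (p : ℕ) (X : Type u) [Group X] : Prop :=
  ∃ (F : Type) (_ : Field F) (U V : Sylow p X) (t : X)
    (χ : ↥(normalizer ((U : Subgroup X) : Set X)) →* Fˣ),
    (∀ n, χ n = 1 ↔ (n : X) ∈ (U : Subgroup X)) ∧
    t ∈ normalizer ((U : Subgroup X) : Set X) ∧ t ∈ normalizer ((V : Subgroup X) : Set X) ∧
    t ^ (p - 1) ∈ (U : Subgroup X) ∧ V ≠ U ∧
    (∀ W : Sylow p X, t ∈ normalizer ((W : Subgroup X) : Set X) → W = U ∨ W = V) ∧
    (∀ W : Sylow p X, W ≠ U → ∃ x ∈ (U : Subgroup X),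
      (V : Subgroup X).map (MulAut.conj x).toMonoidHom = (W : Subgroup X)) ∧
    (∀ g : X, (∀ x : X, (∃ k : ℕ, x ^ p ^ k = 1) → g * x = x * g) → g ∈ center X) ∧
    Nat.card (center X) < p

variable {X : Type u} [Group X] [Finite X] {Y : Type v} [Group Y] [Finite Y]

theorem Good.map (h : Good p X) (π : X →* Y) (hπ : Function.Surjective π) (hc : π.ker ≤ center X)
    (hp : ¬ p ∣ Nat.card π.ker) : Good p Y := by
  classical
  obtain ⟨F, _, U, V, t, χ, hχ, htU, htV, htp, hVU, huniq, htrans, hcent, hsmall⟩ := h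
  have hpr : p.Prime := Fact.out
  set m := Nat.card π.ker with hm
  have hm1 : ∀ z ∈ π.ker, z ^ m = 1 := fun z hz =>
    congrArg Subtype.val (pow_card_eq_one' (x := (⟨z, hz⟩ : π.ker)))
  have hcop : ∀ {k : ℕ}, Nat.Coprime (p ^ k) m := fun {k} => (hpr.coprime_iff_not_dvd.mpr hp).pow_left k
  have heq : ∀ {a b : X}, (∃ k, a ^ p ^ k = 1) → (∃ k, b ^ p ^ k = 1) → π a = π b → a = b := by
    rintro a b ⟨i, ha⟩ ⟨j, hb⟩ hab
    have hc' : a⁻¹ * b ∈ π.ker := by rw [MonoidHom.mem_ker, map_mul, map_inv, hab, inv_mul_cancel]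
    set c := a⁻¹ * b with hcdef
    have hb' : b = a * c := by rw [hcdef, mul_inv_cancel_left]
    have hcomm : Commute a c := (mem_center_iff.mp (hc hc') a)
    have h1 : c ^ p ^ (i + j) = 1 := by
      have h2 : b ^ p ^ (i + j) = 1 := by rw [pow_add, mul_comm, pow_mul, hb, one_pow]
      rw [hb', hcomm.mul_pow, pow_add, pow_mul a, ha, one_pow, one_mul] at h2
      rw [pow_add]
      exact h2
    have h2 : c = 1 := orderOf_eq_one_iff.mp (Nat.eq_one_of_dvd_coprimes hcop
      (orderOf_dvd_of_pow_eq_one h1) (orderOf_dvd_of_pow_eq_one (hm1 c hc')))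
    rw [hb', h2, mul_one]
  have hpel : ∀ (W : Sylow p X), ∀ x ∈ (W : Subgroup X), ∃ k, x ^ p ^ k = 1 := fun W x hx => by
    obtain ⟨k, hk⟩ := W.isPGroup' ⟨x, hx⟩
    exact ⟨k, congrArg Subtype.val hk⟩
  have hpconj : ∀ (W : Sylow p X) (g : X), ∀ x ∈ (W : Subgroup X), ∃ k, (g * x * g⁻¹) ^ p ^ k = 1 := by
    intro W g x hx
    obtain ⟨k, hk⟩ := hpel W x hx
    exact ⟨k, by rw [conj_pow, hk, mul_one, mul_inv_cancel]⟩
  -- normalizers correspond
  have hN : ∀ (W : Sylow p X) (g : X),
      g ∈ normalizer ((W : Subgroup X) : Set X) ↔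
        π g ∈ normalizer (((W : Subgroup X).map π : Subgroup Y) : Set Y) := by
    intro W g
    constructor
    · intro hg
      exact le_normalizer_map π ⟨g, hg, rfl⟩
    · intro hg
      rw [mem_normalizer_iff_map_conj_eq]
      refine eq_of_le_of_card_ge ?_ (card_map_of_injective (MulAut.conj g).injective).ge
      rintro _ ⟨x, hx, rfl⟩
      obtain ⟨y, hy, hxy⟩ := (mem_normalizer_iff.mp hg (π x)).mp ⟨x, hx, rfl⟩
      have e : g * x * g⁻¹ = y := heq (hpconj W g x hx) (hpel W y hy) (by simpa using hxy.symm)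
      show g * x * g⁻¹ ∈ (W : Subgroup X)
      rw [e]
      exact hy
  set U' : Sylow p Y := U.mapSurjective hπ
  set V' : Sylow p Y := V.mapSurjective hπ
  have hinj : ∀ W W' : Sylow p X, W.mapSurjective hπ = W'.mapSurjective hπ → W = W' := by
    intro W W' hWW
    refine Sylow.ext (eq_of_le_of_card_ge (fun x hx => ?_) (le_of_eq ?_))
    · obtain ⟨y, hy, hxy⟩ : π x ∈ (W' : Subgroup X).map π := by
        have : π x ∈ ((W.mapSurjective hπ : Sylow p Y) : Subgroup Y) := ⟨x, hx, rfl⟩
        rwa [hWW] at this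
      rw [heq (hpel W x hx) (hpel W' y hy) hxy.symm]
      exact hy
    · rw [W'.card_eq_multiplicity, W.card_eq_multiplicity]
  -- the character
  let πN : ↥(normalizer ((U : Subgroup X) : Set X)) →* ↥(normalizer ((U' : Subgroup Y) : Set Y)) :=
    (π.comp (Subgroup.subtype _)).codRestrict _ fun n => (hN U n).mp n.2
  have hπN : Function.Surjective πN := by
    rintro ⟨y, hy⟩
    obtain ⟨x, rfl⟩ := hπ y
    exact ⟨⟨x, (hN U x).mpr hy⟩, rfl⟩
  let χm : ↥(normalizer ((U : Subgroup X) : Set X)) →* Fˣ := (powMonoidHom m).comp χ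
  have hle : πN.ker ≤ χm.ker := by
    intro n hn
    have hn' : (n : X) ∈ π.ker := congrArg Subtype.val hn
    show χ n ^ m = 1
    rw [← map_pow, show n ^ m = 1 from Subtype.ext (hm1 _ hn'), map_one]
  let χ' := πN.liftOfSurjective hπN ⟨χm, hle⟩
  have hχ' : ∀ n, χ' (πN n) = χ n ^ m := fun n =>
    MonoidHom.liftOfRightInverse_comp_apply _ _ (Function.rightInverse_surjInv hπN) ⟨χm, hle⟩ n
  refine ⟨F, inferInstance, U', V', π t, χ', ?_, (hN U t).mp htU, (hN V t).mp htV, ?_, ?_, ?_, ?_,
    ?_, ?_⟩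
  · intro y
    obtain ⟨n, rfl⟩ := hπN y
    rw [hχ']
    constructor
    · intro hnm
      -- the image of the kernel exhausts the roots of unity
      have hkN : π.ker ≤ normalizer ((U : Subgroup X) : Set X) := fun z hz =>
        mem_normalizer_iff.mpr fun x => by
          rw [← mem_center_iff.mp (hc hz) x, mul_inv_cancel_right]
      haveI : NeZero m := ⟨Nat.card_pos.ne'⟩
      let r : π.ker → rootsOfUnity m F := fun z => ⟨χ ⟨z, hkN z.2⟩, by
        rw [mem_rootsOfUnity, ← map_pow, show (⟨(z : X), hkN z.2⟩ : ↥(normalizer ((U : Subgroup X) : Set X))) ^ m = 1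
          from Subtype.ext (hm1 _ z.2), map_one]⟩
      have hrinj : Function.Injective r := by
        intro a b hab
        have e : χ ⟨a, hkN a.2⟩ = χ ⟨b, hkN b.2⟩ := congrArg Subtype.val hab
        have h1 : ((a : X)⁻¹ * b) ∈ (U : Subgroup X) := by
          have := (hχ ((⟨(a : X), hkN a.2⟩)⁻¹ * ⟨(b : X), hkN b.2⟩)).mp (by rw [map_mul, map_inv, e, inv_mul_cancel])
          exact this
        have h2 : (a : X)⁻¹ * b = 1 := heq (hpel U _ h1) ⟨0, one_pow _⟩ (by
          rw [map_mul, map_inv, MonoidHom.mem_ker.mp a.2, MonoidHom.mem_ker.mp b.2, map_one, inv_one,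
            one_mul])
        exact Subtype.ext (inv_mul_eq_one.mp h2)
      have hrb : Function.Bijective r := (Nat.bijective_iff_injective_and_card r).mpr
        ⟨hrinj, le_antisymm (Nat.card_le_card_of_injective r hrinj) (card_rootsOfUnity F m)⟩
      obtain ⟨z, hz⟩ := hrb.2 ⟨χ n, by rw [mem_rootsOfUnity]; exact hnm⟩
      have hz' : χ ⟨z, hkN z.2⟩ = χ n := congrArg Subtype.val hz
      have h1 := (hχ ((⟨(z : X), hkN z.2⟩)⁻¹ * n)).mp (by rw [map_mul, map_inv, hz', inv_mul_cancel])
      refine ⟨_, h1, ?_⟩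
      show π ((z : X)⁻¹ * n) = π n
      rw [map_mul, map_inv, MonoidHom.mem_ker.mp z.2, inv_one, one_mul]
    · rintro ⟨x, hx, hxn⟩
      have hxN : x ∈ normalizer ((U : Subgroup X) : Set X) := le_normalizer hx
      have e : πN ⟨x, hxN⟩ = πN n := Subtype.ext hxn
      rw [← hχ', ← e, hχ', (hχ ⟨x, hxN⟩).mpr hx, one_pow]
  · exact ⟨_, htp, map_pow π t (p - 1)⟩
  · exact fun e => hVU (hinj V U e)
  · intro W ht
    obtain ⟨W0, rfl⟩ := Sylow.mapSurjective_surjective hπ p W
    rcases huniq W0 ((hN W0 t).mpr ht) with rfl | rfl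
    · exact Or.inl rfl
    · exact Or.inr rfl
  · intro W hW
    obtain ⟨W0, rfl⟩ := Sylow.mapSurjective_surjective hπ p W
    obtain ⟨x, hx, hxW⟩ := htrans W0 (fun e => hW (e ▸ rfl))
    refine ⟨π x, ⟨x, hx, rfl⟩, ?_⟩
    show ((V : Subgroup X).map π).map (MulAut.conj (π x)).toMonoidHom = (W0 : Subgroup X).map π
    rw [← hxW, Subgroup.map_map, Subgroup.map_map]
    congr 1
    ext g
    simp
  · intro g hg
    obtain ⟨x, rfl⟩ := hπ g
    have hx : x ∈ center X := by
      refine hcent x fun y hy => ?_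
      obtain ⟨k, hk⟩ := hy
      have e := hg (π y) ⟨k, by rw [← map_pow, hk, map_one]⟩
      have h1 : x * y * x⁻¹ = y :=
        heq ⟨k, by rw [conj_pow, hk, mul_one, mul_inv_cancel]⟩ ⟨k, hk⟩
          (by simp only [map_mul, map_inv, e, mul_inv_cancel_right])
      calc x * y = x * y * x⁻¹ * x := by group
        _ = y * x := by rw [h1]
    exact mem_center_iff.mpr fun y => by
      obtain ⟨y, rfl⟩ := hπ y
      rw [← map_mul, ← map_mul, mem_center_iff.mp hx y]
  · refine lt_of_le_of_lt ?_ hsmall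
    have hpre : ∀ y : center Y, ∃ x : center X, π x = y := by
      rintro ⟨y, hy⟩
      obtain ⟨x, rfl⟩ := hπ y
      refine ⟨⟨x, hcent x fun w hw => ?_⟩, rfl⟩
      obtain ⟨k, hk⟩ := hw
      have h1 : x * w * x⁻¹ = w :=
        heq ⟨k, by rw [conj_pow, hk, mul_one, mul_inv_cancel]⟩ ⟨k, hk⟩
          (by simp only [map_mul, map_inv, (mem_center_iff.mp hy (π w)).symm, mul_inv_cancel_right])
      calc x * w = x * w * x⁻¹ * x := by group
        _ = w * x := by rw [h1]
    choose f hf using hpre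
    exact Nat.card_le_card_of_injective f fun a b hab =>
      Subtype.ext (by rw [← hf a, ← hf b, hab])

theorem Good.equiv (h : Good p X) (e : X ≃* Y) : Good p Y :=
  h.map e.toMonoidHom e.surjective (fun x hx => by
    rw [e.injective (hx.trans (map_one e).symm)]; exact one_mem _)
    (by
      have hb : e.toMonoidHom.ker = ⊥ := (MonoidHom.ker_eq_bot_iff _).mpr e.injective
      rw [hb, Nat.card_unique]
      exact fun h => (Fact.out : p.Prime).ne_one (Nat.dvd_one.mp h))

/-- An element of a Sylow subgroup commuting with that subgroup and its normalizer is trivial, if there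
is no nontrivial normal `p`-subgroup and a normal rank one subgroup with `p`-group quotient. -/
theorem fix_eq_one (hO : Cfsg.pCore p Y = ⊥) (K : Subgroup Y) [K.Normal]
    (hYK : ∀ y : Y, ∃ k : ℕ, y ^ p ^ k ∈ K) (hK : Good p K) (T : Sylow p Y) {z : Y}
    (hzT : z ∈ (T : Subgroup Y)) (hzc : ∀ n ∈ normalizer ((T : Subgroup Y) : Set Y), z * n = n * z) :
    z = 1 := by
  classical
  have hpr : p.Prime := Fact.out
  have hzS : ∀ s ∈ (T : Subgroup Y), z * s = s * z := fun s hs => hzc s (le_normalizer hs)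
  obtain ⟨k0, hk0'⟩ := T.isPGroup' ⟨z, hzT⟩
  have hk0 : z ^ p ^ k0 = 1 := congrArg Subtype.val hk0'
  -- the Sylow subgroup of the normal subgroup
  have hUdvd : ¬ p ∣ ((T : Subgroup Y).subgroupOf K).index := H31.sylow_relIndex_not_dvd T K
  set U0 : Sylow p K := ((T.isPGroup'.comap_subtype (K := K))).toSylow hUdvd with hU0
  have hmemU : ∀ x : K, x ∈ (U0 : Subgroup K) ↔ (x : Y) ∈ (T : Subgroup Y) := fun x => Iff.rfl
  obtain ⟨F, _, U, V, t, χ, hχ, htU, htV, htp, hVU, huniq, htrans, hcent, hsmall⟩ :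
      ∃ (F : Type) (_ : Field F) (U V : Sylow p K) (t : K)
        (χ : ↥(normalizer ((U : Subgroup K) : Set K)) →* Fˣ), (∀ n, χ n = 1 ↔ (n : K) ∈ (U : Subgroup K)) ∧
        t ∈ normalizer ((U0 : Subgroup K) : Set K) ∧ t ∈ normalizer ((V : Subgroup K) : Set K) ∧
        t ^ (p - 1) ∈ (U0 : Subgroup K) ∧ V ≠ U0 ∧
        (∀ W : Sylow p K, t ∈ normalizer ((W : Subgroup K) : Set K) → W = U0 ∨ W = V) ∧
        (∀ W : Sylow p K, W ≠ U0 → ∃ x ∈ (U0 : Subgroup K),
          (V : Subgroup K).map (MulAut.conj x).toMonoidHom = (W : Subgroup K)) ∧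
        (∀ g : K, (∀ x : K, (∃ k : ℕ, x ^ p ^ k = 1) → g * x = x * g) → g ∈ center K) ∧
        Nat.card (center K) < p ∧ U = U0 := by
    obtain ⟨F, iF, U, V, t, χ, h1, h2, h3, h4, h5, h6, h7, h8, h9⟩ := hK
    obtain ⟨g, hg⟩ := MulAction.exists_smul_eq K U U0
    have hU : (U0 : Subgroup K) = (U : Subgroup K).map (MulAut.conj g).toMonoidHom := by
      rw [← hg]; rfl
    set c := (MulAut.conj g).toMonoidHom with hcdef
    have hNeq : normalizer ((U0 : Subgroup K) : Set K) = (normalizer ((U : Subgroup K) : Set K)).map c := by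
      rw [hU]
      exact (map_equiv_normalizer_eq _ (MulAut.conj g)).symm
    let e := (equivMapOfInjective (normalizer ((U : Subgroup K) : Set K)) c (MulAut.conj g).injective)
    let e' := (MulEquiv.subgroupCongr hNeq).trans e.symm
    have he' : ∀ n, c (e' n : K) = (n : K) := fun n => by
      show c ((e.symm (MulEquiv.subgroupCongr hNeq n)) : K) = n
      rw [← coe_equivMapOfInjective_apply _ c (MulAut.conj g).injective, MulEquiv.apply_symm_apply]
      rfl
    have hNmap : ∀ (W : Sylow p K) (x : K), x ∈ normalizer ((W : Subgroup K) : Set K) →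
        c x ∈ normalizer (((g • W : Sylow p K) : Subgroup K) : Set K) := fun W x hx => by
      show c x ∈ normalizer (((W : Subgroup K).map c : Subgroup K) : Set K)
      exact le_normalizer_map c ⟨x, hx, rfl⟩
    refine ⟨F, iF, U0, g • V, c t, χ.comp e'.toMonoidHom, ?_, ?_, hNmap V t h3, ?_, ?_, ?_, ?_, h8, h9,
      rfl⟩
    · intro n
      show χ (e' n) = 1 ↔ _
      have hmem : ∀ x : K, c x ∈ (U0 : Subgroup K) ↔ x ∈ (U : Subgroup K) := fun x => by
        rw [hU]
        exact mem_map_iff_mem (MulAut.conj g).injective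
      rw [h1, ← hmem, he']
    · rw [← hg]; exact hNmap U t h2
    · rw [← map_pow, hU]
      exact ⟨_, h4, rfl⟩
    · intro e''
      rw [← hg] at e''
      exact h5 (MulAction.injective g e'')
    · intro W hW
      have h' : t ∈ normalizer (((g⁻¹ • W : Sylow p K) : Subgroup K) : Set K) := by
        show t ∈ normalizer (((W : Subgroup K).map (MulAut.conj g⁻¹).toMonoidHom : Subgroup K) : Set K)
        have := le_normalizer_map (MulAut.conj g⁻¹).toMonoidHom
          (show (MulAut.conj g⁻¹).toMonoidHom (c t) ∈ _ from ⟨c t, hW, rfl⟩)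
        simpa [c, mul_assoc] using this
      rcases h6 _ h' with h'' | h''
      · exact Or.inl (by rw [← hg, ← h'', smul_inv_smul])
      · exact Or.inr (by rw [← h'', smul_inv_smul])
    · intro W hW
      have hne : g⁻¹ • W ≠ U := fun e'' => hW (by rw [← hg, ← e'', smul_inv_smul])
      obtain ⟨x, hx, hxW⟩ := h7 _ hne
      refine ⟨c x, by rw [hU]; exact ⟨x, hx, rfl⟩, ?_⟩
      show ((V : Subgroup K).map c).map (MulAut.conj (c x)).toMonoidHom = _
      have e1 : ((g • (g⁻¹ • W) : Sylow p K) : Subgroup K) = (W : Subgroup K) := by rw [smul_inv_smul]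
      rw [← e1]
      show _ = ((g⁻¹ • W : Sylow p K) : Subgroup K).map c
      rw [← hxW, Subgroup.map_map, Subgroup.map_map]
      congr 1
      ext y
      simp [c, mul_assoc]
  obtain ⟨hsmall, rfl⟩ := hsmall
  -- conjugation by elements of `Y`
  let a : Y → K →* K := fun y => (MulAut.conjNormal (H := K) y).toMonoidHom
  have ha : ∀ y (x : K), ((a y x : K) : Y) = y * x * y⁻¹ := fun y x => MulAut.conjNormal_apply y x
  have haU : ∀ s ∈ (T : Subgroup Y), ∀ x ∈ (U0 : Subgroup K), a s x ∈ (U0 : Subgroup K) := fun s hs x hx => by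
    rw [hmemU] at hx ⊢
    rw [ha]
    exact mul_mem (mul_mem hs hx) (inv_mem hs)
  have haUeq : ∀ s ∈ (T : Subgroup Y), (U0 : Subgroup K).map (a s) = (U0 : Subgroup K) := fun s hs =>
    eq_of_le_of_card_ge (by rintro _ ⟨x, hx, rfl⟩; exact haU s hs x hx)
      (card_map_of_injective (MulAut.conjNormal (H := K) s).injective).ge
  have haN : ∀ s ∈ (T : Subgroup Y), ∀ n ∈ normalizer ((U0 : Subgroup K) : Set K),
      a s n ∈ normalizer ((U0 : Subgroup K) : Set K) := fun s hs n hn => by
    have := le_normalizer_map (H := (U0 : Subgroup K)) (a s) ⟨n, hn, rfl⟩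
    rwa [haUeq s hs] at this
  let St : Subgroup ↥(T : Subgroup Y) :=
    { carrier := {s | t⁻¹ * a s t ∈ (U0 : Subgroup K)}
      one_mem' := by
        show t⁻¹ * a ((1 : ↥(T : Subgroup Y)) : Y) t ∈ (U0 : Subgroup K)
        rw [show a ((1 : ↥(T : Subgroup Y)) : Y) t = t from Subtype.ext (by simp [ha]), inv_mul_cancel]
        exact one_mem _
      mul_mem' := by
        intro x y hx hy
        have e : t⁻¹ * a ((x * y : ↥(T : Subgroup Y)) : Y) t =
            t⁻¹ * a (x : Y) t * a (x : Y) (t⁻¹ * a (y : Y) t) := Subtype.ext (by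
          simp [ha, mul_assoc])
        show t⁻¹ * a ((x * y : ↥(T : Subgroup Y)) : Y) t ∈ (U0 : Subgroup K)
        rw [e]
        exact mul_mem hx (haU x x.2 _ hy)
      inv_mem' := by
        intro x hx
        have e : t⁻¹ * a ((x⁻¹ : ↥(T : Subgroup Y)) : Y) t =
            (a ((x⁻¹ : ↥(T : Subgroup Y)) : Y) (t⁻¹ * a (x : Y) t))⁻¹ := Subtype.ext (by
          simp [ha, mul_assoc])
        show t⁻¹ * a ((x⁻¹ : ↥(T : Subgroup Y)) : Y) t ∈ (U0 : Subgroup K)
        rw [e]
        exact inv_mem (haU _ (x⁻¹).2 _ hx) }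
  have hSt : St = ⊤ := by
    have hp1 : p - 1 ≠ 0 := Nat.sub_ne_zero_of_lt hpr.one_lt
    haveI : NeZero (p - 1) := ⟨hp1⟩
    have hval : ∀ s : ↥(T : Subgroup Y),
        χ ⟨a s t, haN s s.2 t htU⟩ ^ (p - 1) = 1 := fun s => by
      rw [← map_pow, hχ]
      show (a (s : Y) t) ^ (p - 1) ∈ _
      rw [← map_pow]
      exact haU s s.2 _ htp
    let f : ↥(T : Subgroup Y) ⧸ St → rootsOfUnity (p - 1) F := fun x =>
      ⟨χ ⟨a (x.out : Y) t, haN _ x.out.2 t htU⟩, by rw [mem_rootsOfUnity]; exact hval _⟩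
    have hf : Function.Injective f := by
      intro x y hxy
      have e : χ ⟨a (x.out : Y) t, haN _ x.out.2 t htU⟩ = χ ⟨a (y.out : Y) t, haN _ y.out.2 t htU⟩ :=
        congrArg Subtype.val hxy
      have h1 := (hχ ((⟨a (x.out : Y) t, haN _ x.out.2 t htU⟩)⁻¹ * ⟨a (y.out : Y) t, haN _ y.out.2 t htU⟩)).mp
        (by rw [map_mul, map_inv, e, inv_mul_cancel])
      rw [← QuotientGroup.out_eq' x, ← QuotientGroup.out_eq' y, QuotientGroup.eq]
      show t⁻¹ * a ((x.out⁻¹ * y.out : ↥(T : Subgroup Y)) : Y) t ∈ (U0 : Subgroup K)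
      have h2 := haU _ (x.out⁻¹).2 _ h1
      have e2 : t⁻¹ * a ((x.out⁻¹ * y.out : ↥(T : Subgroup Y)) : Y) t =
          a ((x.out⁻¹ : ↥(T : Subgroup Y)) : Y) ((a (x.out : Y) t)⁻¹ * a (y.out : Y) t) := Subtype.ext (by
        simp [ha, mul_assoc])
      rw [e2]
      exact h2
    have hle : St.index ≤ p - 1 := (Nat.card_le_card_of_injective f hf).trans
      (card_rootsOfUnity F (p - 1))
    obtain ⟨n, hn⟩ := T.isPGroup'.index St
    rw [hn] at hle
    rcases Nat.eq_zero_or_pos n with rfl | hn0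
    · exact index_eq_one.mp (by rw [hn, pow_zero])
    · have h1 := Nat.le_self_pow hn0.ne' p
      have h2 := hpr.two_le
      omega
  -- `z` centralises `t`
  have htT : (t : Y) ∈ normalizer ((T : Subgroup Y) : Set Y) := by
    rw [mem_normalizer_iff_map_conj_eq]
    refine eq_of_le_of_card_ge ?_ (card_map_of_injective (MulAut.conj (t : Y)).injective).ge
    rintro _ ⟨s, hs, rfl⟩
    have h1 : t⁻¹ * a s t ∈ (U0 : Subgroup K) := (hSt ▸ mem_top _ : (⟨s, hs⟩ : ↥(T : Subgroup Y)) ∈ St)
    have h2 : t * (t⁻¹ * a s t)⁻¹ * t⁻¹ ∈ (U0 : Subgroup K) :=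
      (mem_normalizer_iff.mp htU _).mp (inv_mem h1)
    rw [hmemU] at h2
    have h3 := mul_mem h2 hs
    simpa [MulAut.conj_apply, ha, mul_assoc] using h3
  have hzt : a z t = t := Subtype.ext (by rw [ha, hzc _ htT, mul_inv_cancel_right])
  have hzU : ∀ x ∈ (U0 : Subgroup K), a z x = x := fun x hx =>
    Subtype.ext (by rw [ha, hzS _ ((hmemU x).mp hx), mul_inv_cancel_right])
  -- `z` normalises every Sylow subgroup of `K`
  have hainj : Function.Injective (a z) := (MulAut.conjNormal (H := K) z).injective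
  have hzV : (V : Subgroup K).map (a z) = (V : Subgroup K) := by
    obtain ⟨W, hW⟩ : ∃ W : Sylow p K, (W : Subgroup K) = (V : Subgroup K).map (a z) :=
      ⟨V.mapSurjective (f := a z) (MulAut.conjNormal (H := K) z).surjective, rfl⟩
    have htW : t ∈ normalizer ((W : Subgroup K) : Set K) := by
      rw [hW]
      exact le_normalizer_map (a z) ⟨t, htV, hzt⟩
    rcases huniq W htW with rfl | rfl
    · exfalso
      refine hVU (Sylow.ext (map_injective hainj ?_))
      rw [haUeq z hzT, ← hW]
    · exact hW.symm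
  have hall : ∀ W : Sylow p K, (W : Subgroup K).map (a z) = (W : Subgroup K) := by
    intro W
    by_cases hW : W = U0
    · rw [hW]; exact haUeq z hzT
    obtain ⟨x, hx, hxW⟩ := htrans W hW
    rw [← hxW, Subgroup.map_map]
    conv_rhs => rw [← hzV, Subgroup.map_map]
    congr 1
    refine MonoidHom.ext fun y => ?_
    simp only [MonoidHom.comp_apply, MulEquiv.coe_toMonoidHom, MulAut.conj_apply, map_mul, map_inv, hzU x hx]
  have hKcore : Cfsg.pCore p K = ⊥ := by
    have h1 := Cores.map_pCore_le_of_normal (p := p) K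
    rw [hO, le_bot_iff, map_eq_bot_iff_of_injective _ K.subtype_injective] at h1
    exact h1
  -- `z` commutes with all `p`-elements
  have hzp : ∀ x : K, (∃ k : ℕ, x ^ p ^ k = 1) → a z x = x := by
    rintro x ⟨k, hk⟩
    have hpg : IsPGroup p (zpowers x) := by
      intro y
      obtain ⟨j, hj⟩ := mem_zpowers_iff.mp y.2
      refine ⟨k, Subtype.ext ?_⟩
      rw [Subgroup.coe_pow, ← hj, ← zpow_natCast, ← zpow_mul, mul_comm, zpow_mul, zpow_natCast, hk, one_zpow,
        OneMemClass.coe_one]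
    obtain ⟨W, hW⟩ := hpg.exists_le_sylow
    have hxW := hW (mem_zpowers x)
    set y := a z x * x⁻¹ with hy
    have hyW : y ∈ (W : Subgroup K) := by
      refine mul_mem ?_ (inv_mem hxW)
      rw [← hall W]
      exact ⟨x, hxW, rfl⟩
    have hycore : y ∈ Cfsg.pCore p K := by
      rw [Cores.pCore_eq_iInf_sylow, mem_iInf]
      intro W'
      -- a `p`-element normalising a Sylow subgroup lies in it
      have hyN : y ∈ normalizer ((W' : Subgroup K) : Set K) := by
        rw [mem_normalizer_iff_map_conj_eq]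
        show (W' : Subgroup K).map (MulAut.conj y).toMonoidHom = _
        set W'' : Sylow p K := x⁻¹ • W'
        have e1 : (W' : Subgroup K).map (MulAut.conj x⁻¹).toMonoidHom = (W'' : Subgroup K) := rfl
        have e2 : (MulAut.conj y).toMonoidHom =
            ((MulAut.conj (a z x)).toMonoidHom).comp (MulAut.conj x⁻¹).toMonoidHom := by
          ext w
          simp [y, mul_assoc]
        rw [e2, ← Subgroup.map_map, e1]
        conv_lhs => rw [← hall W'', Subgroup.map_map]
        have e3 : ((MulAut.conj (a z x)).toMonoidHom).comp (a z) = (a z).comp (MulAut.conj x).toMonoidHom := by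
          refine MonoidHom.ext fun w => ?_
          simp [map_mul, map_inv]
        have e4 : ((MulAut.conj x).toMonoidHom).comp (MulAut.conj x⁻¹).toMonoidHom = MonoidHom.id K := by
          ext w
          simp [mul_assoc]
        have e5 : (W'' : Subgroup K).map (MulAut.conj x).toMonoidHom = (W' : Subgroup K) := by
          rw [← e1, Subgroup.map_map, e4, Subgroup.map_id]
        rw [e3, ← Subgroup.map_map, e5]
        exact hall W'
      have hp2 : IsPGroup p (((W' : Subgroup K) ⊔ zpowers y : Subgroup K)) :=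
        W'.isPGroup'.to_sup_of_normal_left' ((W.isPGroup').to_le (zpowers_le.mpr hyW)) (zpowers_le.mpr hyN)
      rw [← W'.3 hp2 le_sup_left]
      exact mem_sup_right (mem_zpowers y)
    rw [hKcore, mem_bot] at hycore
    exact mul_inv_eq_one.mp hycore
  -- `z` centralises `K`
  have hcK : ∀ x : K, a z x = x := by
    intro x
    set c := a z x * x⁻¹ with hc
    have hcc : c ∈ center K := by
      refine hcent c fun w hw => ?_
      obtain ⟨k, hk⟩ := hw
      have h1 : a z (x⁻¹ * w * x) = x⁻¹ * w * x :=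
        hzp _ ⟨k, by rw [show x⁻¹ * w * x = x⁻¹ * w * x⁻¹⁻¹ by group, conj_pow, hk, mul_one, mul_inv_cancel]⟩
      simp only [map_mul, map_inv, hzp w ⟨k, hk⟩] at h1
      calc c * w = a z x * (x⁻¹ * w * x) * x⁻¹ := by rw [hc]; group
        _ = a z x * ((a z x)⁻¹ * w * a z x) * x⁻¹ := by rw [← h1]
        _ = w * c := by rw [hc]; group
    -- the centre is fixed
    have hfix : ∀ d ∈ center K, a z d = d := by
      intro d hd
      let φ : Equiv.Perm (center K) :=
        (((MulAut.conjNormal (H := K) z)).subgroupMap (center K)).toEquiv.trans (MulEquiv.subgroupCongr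
          (characteristic_iff_map_eq.mp (inferInstance : (center K).Characteristic) _)).toEquiv
      have hφ : ∀ (m : ℕ) (w : center K), (((φ ^ m) w : K) : Y) = z ^ m * (w : K) * (z ^ m)⁻¹ := by
        intro m
        induction m with
        | zero => intro w; simp
        | succ m ih =>
          intro w
          rw [pow_succ', Equiv.Perm.mul_apply]
          show ((MulAut.conjNormal z ((φ ^ m) w : K) : K) : Y) = _
          rw [MulAut.conjNormal_apply, ih]
          group
      have h1 : φ ^ p ^ k0 = 1 := Equiv.ext fun w => Subtype.ext (Subtype.ext (by rw [hφ, hk0]; simp))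
      have h2 : orderOf φ ∣ (Nat.card (center K)).factorial := by
        rw [← Nat.card_perm]
        exact orderOf_dvd_natCard φ
      have h3 : φ = 1 := orderOf_eq_one_iff.mp (Nat.eq_one_of_dvd_coprimes
        (((hpr.coprime_iff_not_dvd).mpr fun hd => (hpr.dvd_factorial.mp hd).not_gt hsmall).pow_left k0)
        (orderOf_dvd_of_pow_eq_one h1) h2)
      have h4 := hφ 1 ⟨d, hd⟩
      rw [pow_one, h3] at h4
      exact Subtype.ext (by rw [ha]; simpa using h4.symm)
    have hm : ∀ m : ℕ, z ^ m * (x : Y) * (z ^ m)⁻¹ = ((c ^ m * x : K) : Y) := by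
      intro m
      induction m with
      | zero => simp
      | succ m ih =>
        have e : z ^ (m + 1) * (x : Y) * (z ^ (m + 1))⁻¹ = z * (z ^ m * x * (z ^ m)⁻¹) * z⁻¹ := by
          rw [pow_succ']; group
        rw [e, ih, ← ha, map_mul, map_pow, hfix c hcc, pow_succ, mul_assoc, hc, inv_mul_cancel_right]
    have h1 : c ^ p ^ k0 = 1 := by
      have := hm (p ^ k0)
      rw [hk0, inv_one, mul_one, one_mul] at this
      exact mul_eq_right.mp (Subtype.ext this.symm)
    have h2 : c ^ Nat.card (center K) = 1 :=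
      congrArg Subtype.val (pow_card_eq_one' (x := (⟨c, hcc⟩ : center K)))
    have h3 : c = 1 := orderOf_eq_one_iff.mp (Nat.eq_one_of_dvd_coprimes
      (((hpr.coprime_iff_not_dvd).mpr fun hd => (Nat.le_of_dvd Nat.card_pos hd).not_gt hsmall).pow_left k0)
      (orderOf_dvd_of_pow_eq_one h1) (orderOf_dvd_of_pow_eq_one h2))
    exact mul_inv_eq_one.mp h3
  -- the centralizer of `K`
  set C := centralizer (K : Set Y) with hC
  haveI : C.Normal := Subgroup.normal_centralizer
  have hzC : z ∈ C := mem_centralizer_iff.mpr fun x hx => by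
    have h1 := ha z ⟨x, hx⟩
    rw [hcK] at h1
    change x = z * x * z⁻¹ at h1
    calc x * z = z * x * z⁻¹ * z := by rw [← h1]
      _ = z * x := by group
  set φ := (QuotientGroup.mk' K).comp C.subtype
  have hφk : φ.ker ≤ center C := by
    intro x hx
    have hxK : (x : Y) ∈ K := (QuotientGroup.eq_one_iff _).mp hx
    exact mem_center_iff.mpr fun w => Subtype.ext (mem_centralizer_iff.mp w.2 _ hxK).symm
  have hYp : IsPGroup p (Y ⧸ K) := by
    intro q
    obtain ⟨y, rfl⟩ := QuotientGroup.mk'_surjective K q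
    obtain ⟨k, hk⟩ := hYK y
    exact ⟨k, by rw [← map_pow]; exact (QuotientGroup.eq_one_iff _).mpr hk⟩
  haveI : Group.IsNilpotent C := by
    have hr : IsPGroup p φ.range := hYp.to_subgroup _
    haveI := hr.isNilpotent
    exact Subgroup.isNilpotent_of_ker_le_center φ.rangeRestrict (by rwa [MonoidHom.ker_rangeRestrict])
  obtain ⟨P, hP⟩ := (T.isPGroup'.comap_subtype (K := C)).exists_le_sylow
  haveI : (P : Subgroup C).Normal := inferInstance
  have hzP : (⟨z, hzC⟩ : C) ∈ Cfsg.pCore p C :=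
    Cores.le_pCore P.isPGroup' (hP hzT)
  have hzO := Cores.map_pCore_le_of_normal (p := p) C ⟨⟨z, hzC⟩, hzP, rfl⟩
  rw [hO, mem_bot] at hzO
  exact hzO

end Cfsg.Agent.H67.RankOneFix
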