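import Cfsg.Agent.H67.RankOneFix.Core
import Mathlib.LinearAlgebra.GeneralLinearGroup.Basic

/-!
The rank one properties of a linear group whose Sylow subgroups are the stabilisers of the vectors in a
set of points.
-/

set_option autoImplicit false
set_option linter.unusedSectionVars false
set_option linter.style.haveILetI false

namespace Cfsg.Agent.H67.RankOneFix

open Subgroup

universe u

variable {p : ℕ} [Fact p.Prime] {X : Type u} [Group X] [Finite X] {F : Type} [Field F] {M : Type}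
  [AddCommGroup M] [Module F M]

/-- Data for the geometric criterion. -/
structure Geom (p : ℕ) (X : Type u) [Group X] (F : Type) [Field F] (M : Type) [AddCommGroup M]
    [Module F M] where
  op : X → M → M
  op_one : ∀ v, op 1 v = v
  op_mul : ∀ g h v, op (g * h) v = op g (op h v)
  op_smul : ∀ g (c : F) v, op g (c • v) = c • op g v
  pts : Set M
  ne_zero : ∀ v ∈ pts, v ≠ 0
  invariant : ∀ g, ∀ v ∈ pts, op g v ∈ pts
  stab : ∀ v ∈ pts, ∃ W : Sylow p X, ∀ g, g ∈ (W : Subgroup X) ↔ op g v = v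
  cover : ∀ W : Sylow p X, ∃ v ∈ pts, ∀ g, g ∈ (W : Subgroup X) ↔ op g v = v
  line : ∀ v ∈ pts, ∀ w ∈ pts, (∀ g, op g v = v → op g w = w) → ∃ c : F, w = c • v

theorem Geom.good (D : Geom p X F M) {u f : M} {t : X} (hu : u ∈ D.pts) (hf : f ∈ D.pts)
    (hti : ∀ c : F, f ≠ c • u) (htu : ∃ a : F, D.op t u = a • u ∧ a ^ (p - 1) = 1)
    (htf : ∃ a : F, D.op t f = a • f)
    (heig : ∀ v ∈ D.pts, (∃ c : F, D.op t v = c • v) → (∃ c : F, v = c • u) ∨ ∃ c : F, v = c • f)
    (htrans : ∀ v ∈ D.pts, (∀ c : F, v ≠ c • u) → ∃ x, D.op x u = u ∧ ∃ c : F, c ≠ 0 ∧ D.op x f = c • v)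
    (hcent : ∀ g : X, (∀ x : X, (∃ k : ℕ, x ^ p ^ k = 1) → g * x = x * g) → g ∈ center X)
    (hsmall : Nat.card (center X) < p) : Good p X := by
  classical
  have hinj : ∀ g {v w : M}, D.op g v = D.op g w → v = w := fun g v w e => by
    rw [← D.op_one v, ← D.op_one w, ← inv_mul_cancel g, D.op_mul, D.op_mul, e]
  have hmul : ∀ {v w : M} {c : F}, v ∈ D.pts → w ∈ D.pts → w = c • v → c ≠ 0 := fun {v w c} _ hw e h0 =>
    D.ne_zero w hw (by rw [e, h0, zero_smul])
  have hscal : ∀ {c : F} {v : M} (g : X), c ≠ 0 → (D.op g (c • v) = c • v ↔ D.op g v = v) := fun {c v} g hc => by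
    rw [D.op_smul]
    exact ⟨fun e => smul_right_injective M hc e, fun e => by rw [e]⟩
  -- normalizers fix lines
  have hN : ∀ (W : Sylow p X) (v : M), v ∈ D.pts → (∀ g, g ∈ (W : Subgroup X) ↔ D.op g v = v) →
      ∀ g, g ∈ normalizer ((W : Subgroup X) : Set X) ↔ ∃ c : F, D.op g v = c • v := by
    intro W v hv hW g
    constructor
    · intro hg
      refine D.line v hv _ (D.invariant g v hv) fun x hx => ?_
      have h1 : g⁻¹ * x * g ∈ (W : Subgroup X) := (mem_normalizer_iff''.mp hg x).mp ((hW x).mpr hx)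
      have h2 := (hW _).mp h1
      apply hinj g⁻¹
      rw [← D.op_mul g⁻¹ g, inv_mul_cancel, D.op_one, ← D.op_mul g⁻¹ x, ← D.op_mul, h2]
    · rintro ⟨c, hc⟩
      have hc0 := hmul hv (D.invariant g v hv) hc
      rw [mem_normalizer_iff_map_conj_eq]
      refine eq_of_le_of_card_ge ?_ (card_map_of_injective (MulAut.conj g).injective).ge
      rintro _ ⟨x, hx, rfl⟩
      refine (hW _).mpr ((hscal _ hc0).mp ?_)
      show D.op (g * x * g⁻¹) (c • v) = c • v
      rw [← hc, ← D.op_mul, inv_mul_cancel_right, D.op_mul, (hW x).mp hx]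
  obtain ⟨U, hU⟩ := D.stab u hu
  obtain ⟨V, hV⟩ := D.stab f hf
  have hu0 := D.ne_zero u hu
  have hex : ∀ n : ↥(normalizer ((U : Subgroup X) : Set X)), ∃ c : Fˣ, D.op (n : X) u = (c : F) • u := by
    intro n
    obtain ⟨c, hc⟩ := (hN U u hu hU n).mp n.2
    exact ⟨Units.mk0 c (hmul hu (D.invariant _ u hu) hc), hc⟩
  choose χ0 hχ0 using hex
  let χ : ↥(normalizer ((U : Subgroup X) : Set X)) →* Fˣ := MonoidHom.mk' χ0 fun m n => by
    ext
    refine smul_left_injective F hu0 ?_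
    show (χ0 (m * n) : F) • u = ((χ0 m * χ0 n : Fˣ) : F) • u
    rw [← hχ0 (m * n), Subgroup.coe_mul, D.op_mul, hχ0 n, D.op_smul, hχ0 m, smul_smul, Units.val_mul,
      mul_comm]
  obtain ⟨a, ha, hap⟩ := htu
  refine ⟨F, inferInstance, U, V, t, χ, ?_, (hN U u hu hU t).mpr ⟨a, ha⟩, (hN V f hf hV t).mpr htf, ?_, ?_,
    ?_, ?_, hcent, hsmall⟩
  · intro n
    rw [hU, hχ0 n]
    constructor
    · intro e
      rw [show χ0 n = 1 from e, Units.val_one, one_smul]
    · intro e
      refine Units.ext (smul_left_injective F hu0 ?_)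
      show (χ0 n : F) • u = ((1 : Fˣ) : F) • u
      rw [e, Units.val_one, one_smul]
  · rw [hU]
    have key : ∀ m : ℕ, D.op (t ^ m) u = a ^ m • u := by
      intro m
      induction m with
      | zero => rw [pow_zero, pow_zero, one_smul, D.op_one]
      | succ m ih => rw [pow_succ', D.op_mul, ih, D.op_smul, ha, smul_smul, pow_succ]
    rw [key, hap, one_smul]
  · intro e
    subst e
    obtain ⟨c, hc⟩ := D.line u hu f hf fun g hg => (hV g).mp ((hU g).mpr hg)
    exact hti c hc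
  · intro W hW
    obtain ⟨v, hv, hWv⟩ := D.cover W
    rcases heig v hv ((hN W v hv hWv t).mp hW) with ⟨c, hc⟩ | ⟨c, hc⟩
    · refine Or.inl (Sylow.ext (Subgroup.ext fun g => ?_))
      rw [hWv, hU, hc, hscal g (hmul hu hv hc)]
    · refine Or.inr (Sylow.ext (Subgroup.ext fun g => ?_))
      rw [hWv, hV, hc, hscal g (hmul hf hv hc)]
  · intro W hW
    obtain ⟨v, hv, hWv⟩ := D.cover W
    have hvu : ∀ c : F, v ≠ c • u := fun c hc => hW (Sylow.ext (Subgroup.ext fun g => by
      rw [hWv, hU, hc, hscal g (hmul hu hv hc)]))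
    obtain ⟨x, hx, c, hc0, hxf⟩ := htrans v hv hvu
    refine ⟨x, (hU x).mpr hx, eq_of_le_of_card_ge ?_ (le_of_eq ?_)⟩
    · rintro _ ⟨y, hy, rfl⟩
      refine (hWv _).mpr ((hscal _ hc0).mp ?_)
      show D.op (x * y * x⁻¹) (c • v) = c • v
      rw [← hxf, ← D.op_mul, inv_mul_cancel_right, D.op_mul, (hV y).mp hy]
    · rw [card_map_of_injective (MulAut.conj x).injective, W.card_eq_multiplicity, V.card_eq_multiplicity]

end Cfsg.Agent.H67.RankOneFix
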